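import Mathlib
import Cfsg.Agent.EqLemmas

/-!
Groups in which every element outside a proper normal subgroup has prime power order and a
maximal centralizer: they are soluble.
-/

set_option autoImplicit false

namespace Cfsg.Agent.MaxCentOutside

variable {G : Type*} [Group G] [Finite G]

/-- The reciprocals of the squares of finitely many primes sum to less than one half. -/
theorem sum_inv_sq_primes_lt (s : Finset ℕ) (hs : ∀ p ∈ s, p.Prime) :
    ∑ p ∈ s, (1 : ℚ) / ((p : ℚ) ^ 2) < 1 / 2 := by
  classical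
  have hb : ∀ k : ℕ, ∑ p ∈ (Finset.range (2 * k + 3)).filter Nat.Prime, (1 : ℚ) / ((p : ℚ) ^ 2)
      ≤ 1 / 2 - 1 / (4 * ((k : ℚ) + 1)) := by
    intro k
    induction k with
    | zero =>
      have : (Finset.range (2 * 0 + 3)).filter Nat.Prime = {2} := by decide
      rw [this]; norm_num
    | succ k ih =>
      have hsub : (Finset.range (2 * (k + 1) + 3)).filter Nat.Prime ⊆
          insert (2 * k + 3) ((Finset.range (2 * k + 3)).filter Nat.Prime) := by
        intro p hp
        simp only [Finset.mem_filter, Finset.mem_range] at hp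
        simp only [Finset.mem_insert, Finset.mem_filter, Finset.mem_range]
        by_cases h1 : p < 2 * k + 3
        · exact Or.inr ⟨h1, hp.2⟩
        · left
          by_contra h2
          have h3 : p = 2 * (k + 2) := by omega
          have h4 : 2 ∣ p := ⟨k + 2, h3⟩
          have := (Nat.prime_dvd_prime_iff_eq Nat.prime_two hp.2).1 h4
          omega
      refine (Finset.sum_le_sum_of_subset_of_nonneg hsub (fun i _ _ => by positivity)).trans ?_
      rw [Finset.sum_insert (by simp)]
      have hk1 : (0 : ℚ) < (k : ℚ) + 1 := by positivity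
      have hk2 : (0 : ℚ) < (k : ℚ) + 2 := by positivity
      have h5 : (1 : ℚ) / ((2 * k + 3 : ℕ) : ℚ) ^ 2 ≤
          1 / (4 * ((k : ℚ) + 1)) - 1 / (4 * ((k : ℚ) + 2)) := by
        have h6 : (1 : ℚ) / (4 * ((k : ℚ) + 1)) - 1 / (4 * ((k : ℚ) + 2)) =
            1 / (4 * ((k : ℚ) + 1) * ((k : ℚ) + 2)) := by
          field_simp; ring
        rw [h6]
        apply one_div_le_one_div_of_le (by positivity)
        push_cast
        nlinarith
      push_cast at h5 ⊢
      have h7 : ((k : ℚ) + 1 + 1) = (k : ℚ) + 2 := by ring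
      rw [h7]
      linarith
  have hsub : s ⊆ (Finset.range (2 * (s.sup id) + 3)).filter Nat.Prime := by
    intro p hp
    simp only [Finset.mem_filter, Finset.mem_range]
    have := Finset.le_sup (f := id) hp
    simp only [id] at this
    exact ⟨by omega, hs p hp⟩
  have h1 := (Finset.sum_le_sum_of_subset_of_nonneg (f := fun p : ℕ => (1 : ℚ) / ((p : ℚ) ^ 2))
    hsub (fun i _ _ => by positivity)).trans (hb (s.sup id))
  have h2 : (0 : ℚ) < 1 / (4 * (((s.sup id : ℕ) : ℚ) + 1)) := by positivity
  linarith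

/-- An element of prime power order whose multiples by commuting elements avoid mixed orders has a
centralizer of prime power order. -/
theorem isPGroup_centralizer (N : Subgroup G) [N.Normal]
    (h : ∀ x : G, x ∉ N → IsPrimePow (orderOf x)) {x : G} (hx : x ∉ N) {p k : ℕ} (hp : p.Prime)
    (hk : 0 < k) (hord : orderOf x = p ^ k) :
    IsPGroup p (Subgroup.centralizer ({x} : Set G)) := by
  haveI := Fact.mk hp
  intro y
  have key : ∀ q : ℕ, q.Prime → q ∣ orderOf (y : G) → q = p := by
    intro q hq hdvd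
    by_contra hne
    set z := (y : G) ^ (orderOf (y : G) / q) with hz
    have hzord : orderOf z = q :=
      orderOf_pow_orderOf_div (orderOf_pos (y : G)).ne' hdvd
    have hc : Commute x z :=
      Commute.pow_right ((Subgroup.mem_centralizer_iff.1 y.2 x (Set.mem_singleton x)) : Commute x y) _
    have hcop : Nat.Coprime (p ^ k) q :=
      Nat.Coprime.pow_left _ ((Nat.coprime_primes hp hq).2 (Ne.symm hne))
    have hxz : orderOf (x * z) = p ^ k * q := by
      rw [hc.orderOf_mul_eq_mul_orderOf_of_coprime (by rw [hord, hzord]; exact hcop), hord, hzord]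
    have hnot : x * z ∉ N := by
      intro hmem
      apply hx
      have hz1 : z ^ q = 1 := by rw [← hzord]; exact pow_orderOf_eq_one z
      have h1 : x ^ q ∈ N := by
        have := N.pow_mem hmem q
        rwa [hc.mul_pow, hz1, mul_one] at this
      obtain ⟨m, hm⟩ := exists_pow_eq_self_of_coprime (x := x) (n := q)
        (by rw [hord]; exact hcop.symm)
      rw [← hm]
      exact N.pow_mem h1 m
    obtain ⟨r, j, hr, hj, hrj⟩ := h _ hnot
    have hr' : r.Prime := Nat.prime_iff.2 hr
    rw [hxz] at hrj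
    have h1 : p ∣ r ^ j := hrj ▸ (dvd_mul_of_dvd_left (dvd_pow_self p hk.ne') q)
    have h2 : q ∣ r ^ j := hrj ▸ (dvd_mul_left q _)
    have e1 := (Nat.prime_dvd_prime_iff_eq hp hr').1 (hp.dvd_of_dvd_pow h1)
    have e2 := (Nat.prime_dvd_prime_iff_eq hq hr').1 (hq.dvd_of_dvd_pow h2)
    exact hne (e2.trans e1.symm)
  refine ⟨(orderOf (y : G)).factorization p, ?_⟩
  have h1 : orderOf (y : G) = p ^ (orderOf (y : G)).factorization p := by
    by_cases h0 : orderOf (y : G) = 1
    · simp [h0]
    · have := Nat.eq_prime_pow_of_unique_prime_dvd (orderOf_pos (y : G)).ne'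
        (fun {q} hq hd => key q hq hd)
      rw [this, hp.factorization_pow]
      simp
  apply Subtype.ext
  rw [SubmonoidClass.coe_pow, OneMemClass.coe_one, ← h1]
  exact pow_orderOf_eq_one _

/-- A group with a normal subgroup which is a maximal soluble subgroup is soluble. -/
theorem isSolvable_of_normal_coatom (C : Subgroup G) [C.Normal] (hC : IsCoatom C)
    [Group.IsSolvable C] : Group.IsSolvable G := by
  haveI : Group.IsSolvable (G ⧸ C) := by
    obtain ⟨g, hg⟩ : ∃ g : G, g ∉ C := by
      by_contra hcon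
      push_neg at hcon
      exact hC.1 (eq_top_iff.2 fun g _ => hcon g)
    refine Group.isSolvable_of_comm (fun a b => ?_)
    have hgen : Subgroup.zpowers g ⊔ C = ⊤ := by
      refine hC.2 _ (lt_of_le_of_ne le_sup_right ?_)
      intro he
      exact hg (he ▸ Subgroup.mem_sup_left (Subgroup.mem_zpowers g))
    have hcyc : ∀ a : G ⧸ C, a ∈ Subgroup.zpowers (g : G ⧸ C) := by
      intro a
      obtain ⟨a', rfl⟩ := QuotientGroup.mk'_surjective C a
      have h1 : (⊤ : Subgroup G).map (QuotientGroup.mk' C) ≤ Subgroup.zpowers (g : G ⧸ C) := by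
        rw [← hgen, Subgroup.map_sup, MonoidHom.map_zpowers]
        simp [QuotientGroup.map_mk'_self]
      exact h1 (Subgroup.mem_map_of_mem _ (Subgroup.mem_top a'))
    obtain ⟨i, rfl⟩ := hcyc a
    obtain ⟨j, rfl⟩ := hcyc b
    exact (Commute.zpow_zpow_self (g : G ⧸ C) i j)
  exact Group.isSolvable_of_ker_le_range C.subtype (QuotientGroup.mk' C)
    (by simp [QuotientGroup.ker_mk'])

/-- An abelian Sylow subgroup which is a maximal subgroup forces solubility. -/
theorem isSolvable_of_comm_sylow_coatom {p : ℕ} [Fact p.Prime] (P : Sylow p G)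
    (hP : IsCoatom (P : Subgroup G))
    (hcomm : ∀ a ∈ (P : Subgroup G), ∀ b ∈ (P : Subgroup G), a * b = b * a) :
    Group.IsSolvable G := by
  haveI : Group.IsSolvable (P : Subgroup G) :=
    Group.isSolvable_of_comm (fun a b => Subtype.ext (hcomm a a.2 b b.2))
  by_cases hn : (P : Subgroup G).Normal
  · exact isSolvable_of_normal_coatom (P : Subgroup G) hP
  have hN : Subgroup.normalizer ((P : Subgroup G) : Set G) = (P : Subgroup G) := by
    rcases (Subgroup.le_normalizer (H := (P : Subgroup G))).lt_or_eq with hlt | he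
    · exact absurd (Subgroup.normalizer_eq_top_iff.1 (hP.2 _ hlt)) hn
    · exact he.symm
  have hle : Subgroup.normalizer ((P : Subgroup G) : Set G) ≤
      Subgroup.centralizer ((P : Subgroup G) : Set G) := by
    rw [hN]
    intro a ha
    rw [Subgroup.mem_centralizer_iff]
    exact fun b hb => hcomm b hb a ha
  set K := (MonoidHom.transferSylow P hle).ker with hK
  have hcompl : Subgroup.IsComplement' K P := MonoidHom.ker_transferSylow_isComplement' P hle
  have hPc := hcompl.symm.index_eq_card
  by_cases hKb : K = ⊥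
  · have hPt : (P : Subgroup G) = ⊤ := by
      have := hcompl.sup_eq_top
      rwa [hKb, bot_sup_eq] at this
    exact absurd hPt hP.1
  obtain ⟨q, hq, hqK⟩ := Nat.exists_prime_and_dvd (n := Nat.card K)
    (fun hc => hKb (Subgroup.card_eq_one.1 hc))
  haveI := Fact.mk hq
  obtain ⟨Q⟩ : Nonempty (Sylow q K) := inferInstance
  set QG := (Q : Subgroup K).map K.subtype with hQG
  have hQne : (Q : Subgroup K) ≠ ⊥ := Q.ne_bot_of_dvd_card hqK
  set H := Subgroup.normalizer (QG : Set G) with hH
  have hHK : H ⊔ K = ⊤ := Sylow.normalizer_sup_eq_top Q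
  have hrel : K.relIndex H = K.index := by
    rw [← Subgroup.relIndex_top_right K, ← hHK, Subgroup.relIndex_sup_right]
  obtain ⟨a, ha⟩ := IsPGroup.iff_card.1 P.2
  have hdvd : p ^ a ∣ Nat.card H := by
    rw [← ha, ← hPc, ← hrel]
    exact Subgroup.relIndex_dvd_card K H
  obtain ⟨R, hR⟩ := Sylow.exists_subgroup_card_pow_prime p hdvd
  set RG := R.map H.subtype with hRG
  have hRcard : Nat.card RG = p ^ a := by
    rw [hRG, Subgroup.card_map_of_injective H.subtype_injective, hR]
  let RS : Sylow p G := Sylow.ofCard RG (by rw [hRcard, ← ha, P.card_eq_multiplicity])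
  obtain ⟨g, hg⟩ := MulAction.exists_smul_eq G P RS
  have hRco : IsCoatom RG := by
    have h1 : (RS : Subgroup G) = (P : Subgroup G).map (MulAut.conj g).toMonoidHom := by
      rw [← hg, Sylow.coe_subgroup_smul]; rfl
    have h2 : (RS : Subgroup G) = RG := rfl
    rw [← h2, h1]
    exact ((MulEquiv.mapSubgroup (MulAut.conj g)).isCoatom_iff (P : Subgroup G)).2 hP
  have hQnle : ¬ QG ≤ RG := by
    intro hle'
    obtain ⟨x, hxQ, hx1⟩ := (Subgroup.ne_bot_iff_exists_ne_one).1 hQne |>.elim
      fun y hy => (⟨(y : K), y.2, fun h => hy (Subtype.ext h)⟩ : ∃ x : K, x ∈ (Q : Subgroup K) ∧ x ≠ 1)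
    have hxR : (x : G) ∈ RG := hle' ⟨x, hxQ, rfl⟩
    have hcop : Nat.Coprime (Nat.card K) (Nat.card RG) := by
      have : ¬ p ∣ Nat.card K := by
        have h3 := hcompl.index_eq_card
        rw [← h3]
        exact P.not_dvd_index
      rw [hRcard]
      exact (Nat.Coprime.pow_right _ (((Fact.out : p.Prime).coprime_iff_not_dvd.2 this).symm))
    have := Subgroup.inf_eq_bot_of_coprime hcop
    have hx0 : (x : G) ∈ (K ⊓ RG : Subgroup G) := ⟨x.2, hxR⟩
    rw [this, Subgroup.mem_bot] at hx0
    exact hx1 (Subtype.ext hx0)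
  have hRH : RG ≤ H := Subgroup.map_subtype_le R
  have hjoin : RG ⊔ QG = ⊤ := by
    refine hRco.2 _ (lt_of_le_of_ne le_sup_left fun he => hQnle ?_)
    rw [he]; exact le_sup_right
  haveI hQn : QG.Normal := by
    rw [← Subgroup.normalizer_eq_top_iff, eq_top_iff, ← hjoin]
    exact sup_le hRH Subgroup.le_normalizer
  haveI : Group.IsSolvable QG := by
    haveI : Group.IsNilpotent QG := (Q.2.map K.subtype).isNilpotent
    infer_instance
  haveI : Group.IsSolvable (G ⧸ QG) := by
    have hsurj : Function.Surjective ((QuotientGroup.mk' QG).comp RG.subtype) := by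
      rw [← MonoidHom.range_eq_top, MonoidHom.range_eq_map, ← Subgroup.map_map,
        ← MonoidHom.range_eq_map, Subgroup.range_subtype]
      have h4 := congrArg (Subgroup.map (QuotientGroup.mk' QG)) hjoin
      rw [Subgroup.map_sup, QuotientGroup.map_mk'_self, sup_bot_eq] at h4
      rw [h4, ← MonoidHom.range_eq_map, MonoidHom.range_eq_top]
      exact QuotientGroup.mk'_surjective QG
    haveI : Group.IsSolvable RG := by
      haveI : Group.IsNilpotent RG := (IsPGroup.of_card hRcard).isNilpotent
      infer_instance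
    exact Group.isSolvable_of_surjective hsurj
  exact Group.isSolvable_of_ker_le_range QG.subtype (QuotientGroup.mk' QG)
    (by simp [QuotientGroup.ker_mk'])

/-- A non-abelian `p`-group has centre of index at least `p²`. -/
theorem card_center_mul_sq_le {p : ℕ} [Fact p.Prime] {P : Type*} [Group P] [Finite P]
    (hP : IsPGroup p P) (hnc : ¬ ∀ a b : P, a * b = b * a) :
    Nat.card (Subgroup.center P) * p ^ 2 ≤ Nat.card P := by
  obtain ⟨j, hj⟩ := IsPGroup.iff_card.1 (hP.to_quotient (Subgroup.center P))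
  have hcard := Subgroup.card_eq_card_quotient_mul_card_subgroup (Subgroup.center P)
  rw [hj] at hcard
  rw [hcard, mul_comm]
  refine Nat.mul_le_mul_right _ (Nat.pow_le_pow_right (Fact.out : p.Prime).pos ?_)
  by_contra hlt
  apply hnc
  haveI : IsCyclic (P ⧸ Subgroup.center P) := by
    rcases (show j = 0 ∨ j = 1 by omega) with rfl | rfl
    · haveI : Subsingleton (P ⧸ Subgroup.center P) :=
        (Nat.card_eq_one_iff_unique.1 (by simpa using hj)).1
      exact isCyclic_of_subsingleton
    · exact isCyclic_of_prime_card (p := p) (by simpa using hj)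
  exact fun a b =>
    ((QuotientGroup.mk' (Subgroup.center P)).isMulCommutative_of_isCyclic_of_ker_le_center
      (by simp [QuotientGroup.ker_mk'])).is_comm.comm a b

theorem isSolvable (N : Subgroup G) [N.Normal] (hN : N ≠ ⊤)
    (h : ∀ x : G, x ∉ N → IsPrimePow (orderOf x) ∧
      IsCoatom (Subgroup.centralizer ({x} : Set G))) : Group.IsSolvable G := by
  classical
  by_cases hpg : ∃ p : ℕ, p.Prime ∧ IsPGroup p G
  · obtain ⟨p, hp, hG⟩ := hpg
    haveI := Fact.mk hp
    haveI := hG.isNilpotent
    infer_instance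
  push_neg at hpg
  by_cases hab : ∃ (p : ℕ) (_ : Fact p.Prime) (P : Sylow p G), IsCoatom (P : Subgroup G) ∧
      ∀ a ∈ (P : Subgroup G), ∀ b ∈ (P : Subgroup G), a * b = b * a
  · obtain ⟨p, hp, P, hP, hc⟩ := hab
    exact isSolvable_of_comm_sylow_coatom P hP hc
  push_neg at hab
  exfalso
  -- every centralizer of an element outside `N` is a Sylow subgroup
  have hsyl : ∀ x : G, x ∉ N → ∀ p k : ℕ, p.Prime → 0 < k → orderOf x = p ^ k →
      ∃ P : Sylow p G, (P : Subgroup G) = Subgroup.centralizer ({x} : Set G) := by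
    intro x hx p k hp hk hord
    haveI := Fact.mk hp
    have hC := isPGroup_centralizer N (fun y hy => (h y hy).1) hx hp hk hord
    obtain ⟨P, hP⟩ := hC.exists_le_sylow
    refine ⟨P, ?_⟩
    rcases hP.lt_or_eq with hlt | he
    · exfalso
      have hPt := (h x hx).2.2 _ hlt
      apply hpg p hp
      intro g
      obtain ⟨m, hm⟩ := P.2 ⟨g, by rw [hPt]; exact Subgroup.mem_top g⟩
      exact ⟨m, by simpa using congrArg Subtype.val hm⟩
    · exact he.symm
  -- the elements outside `N` belonging to one prime are few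
  let A : ℕ → Finset G := fun p => by
    haveI := Fintype.ofFinite G
    exact Finset.univ.filter (fun x => x ∉ N ∧ ∃ k, 0 < k ∧ orderOf x = p ^ k)
  have hbound : ∀ p : ℕ, p.Prime → (A p).card * p ^ 2 ≤ Nat.card G := by
    intro p hp
    haveI := Fact.mk hp
    rcases (A p).eq_empty_or_nonempty with he | ⟨x₀, hx₀⟩
    · simp [he]
    obtain ⟨hx0N, k₀, hk₀, hord₀⟩ : x₀ ∉ N ∧ ∃ k, 0 < k ∧ orderOf x₀ = p ^ k := by
      simpa [A] using hx₀
    obtain ⟨P, hPeq⟩ := hsyl x₀ hx0N p k₀ hp hk₀ hord₀
    have hnc : ¬ ∀ a b : (P : Subgroup G), a * b = b * a := by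
      intro hall
      obtain ⟨a, ha, b, hb, hne⟩ := hab p ⟨hp⟩ P (hPeq ▸ (h x₀ hx0N).2)
      exact hne (congrArg Subtype.val (hall ⟨a, ha⟩ ⟨b, hb⟩))
    let f : Subgroup.center (P : Subgroup G) × (G ⧸ (P : Subgroup G)) → G :=
      fun zq => zq.2.out * ((zq.1 : (P : Subgroup G)) : G) * zq.2.out⁻¹
    have hsub : (A p : Set G) ⊆ Set.range f := by
      intro x hx
      obtain ⟨hxN, k, hk, hord⟩ : x ∉ N ∧ ∃ k, 0 < k ∧ orderOf x = p ^ k := by
        simpa [A] using hx
      obtain ⟨Q, hQeq⟩ := hsyl x hxN p k hp hk hord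
      obtain ⟨g, hg⟩ := MulAction.exists_smul_eq G P Q
      have hmem : ∀ y : G, g * y * g⁻¹ ∈ Subgroup.centralizer ({x} : Set G) ↔
          y ∈ (P : Subgroup G) := by
        intro y
        rw [← hQeq, ← hg]
        show g * y * g⁻¹ ∈ ((g • P : Sylow p G) : Subgroup G) ↔ _
        rw [Sylow.coe_subgroup_smul, Subgroup.mem_pointwise_smul_iff_inv_smul_mem]
        simp [MulAut.smul_def, mul_assoc]
      set z := g⁻¹ * x * g with hz
      have hxz : g * z * g⁻¹ = x := by rw [hz]; group
      have hzP : z ∈ (P : Subgroup G) := by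
        rw [← hmem, hxz, Subgroup.mem_centralizer_iff]
        simp
      have hzc : (⟨z, hzP⟩ : (P : Subgroup G)) ∈ Subgroup.center (P : Subgroup G) := by
        rw [Subgroup.mem_center_iff]
        intro y
        apply Subtype.ext
        show (y : G) * z = z * (y : G)
        have h1 := Subgroup.mem_centralizer_iff.1 ((hmem y).2 y.2) x (Set.mem_singleton x)
        calc (y : G) * z = g⁻¹ * ((g * y * g⁻¹) * x) * g := by rw [hz]; group
          _ = g⁻¹ * (x * (g * y * g⁻¹)) * g := by rw [h1]
          _ = z * (y : G) := by rw [hz]; group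
      refine ⟨(⟨_, hzc⟩, (g : G ⧸ (P : Subgroup G))), ?_⟩
      obtain ⟨u, hu⟩ := QuotientGroup.mk_out_eq_mul (P : Subgroup G) g
      show (g : G ⧸ (P : Subgroup G)).out * z * (g : G ⧸ (P : Subgroup G)).out⁻¹ = x
      rw [hu, ← hxz]
      have h2 : (u : G) * z = z * u :=
        congrArg Subtype.val (Subgroup.mem_center_iff.1 hzc u)
      calc g * u * z * (g * u)⁻¹ = g * ((u : G) * z) * (u : G)⁻¹ * g⁻¹ := by group
        _ = g * z * g⁻¹ := by rw [h2]; group
    have hle : (A p).card ≤
        Nat.card (Subgroup.center (P : Subgroup G)) * (P : Subgroup G).index := by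
      have h1 : (A p).card = (A p : Set G).ncard := (Set.ncard_coe_finset _).symm
      rw [h1, Subgroup.index, ← Nat.card_prod]
      refine (Set.ncard_le_ncard hsub (Set.toFinite _)).trans ?_
      rw [← Set.image_univ, ← Set.ncard_univ]
      exact Set.ncard_image_le (Set.toFinite _)
    calc (A p).card * p ^ 2
        ≤ Nat.card (Subgroup.center (P : Subgroup G)) * (P : Subgroup G).index * p ^ 2 :=
          Nat.mul_le_mul_right _ hle
      _ = Nat.card (Subgroup.center (P : Subgroup G)) * p ^ 2 * (P : Subgroup G).index := by ring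
      _ ≤ Nat.card (P : Subgroup G) * (P : Subgroup G).index :=
          Nat.mul_le_mul_right _ (card_center_mul_sq_le P.2 hnc)
      _ = Nat.card G := Subgroup.card_mul_index _
  set s := (Nat.card G).primeFactors with hs
  have hcover : {x : G | x ∉ N} ⊆ ((s.biUnion A : Finset G) : Set G) := by
    intro x hx
    obtain ⟨p, k, hp, hk, hpk⟩ := (h x hx).1
    have hp' : p.Prime := Nat.prime_iff.2 hp
    simp only [Finset.coe_biUnion, Set.mem_iUnion, Finset.mem_coe, exists_prop]
    refine ⟨p, ?_, by simpa [A] using ⟨hx, k, hk, hpk.symm⟩⟩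
    rw [hs, Nat.mem_primeFactors]
    exact ⟨hp', (hpk ▸ dvd_pow_self p hk.ne').trans (orderOf_dvd_natCard x), Nat.card_pos.ne'⟩
  have hout : Nat.card G ≤ 2 * ({x : G | x ∉ N}).ncard := by
    have h1 := Set.ncard_add_ncard_compl (N : Set G)
    have h2 : (N : Set G)ᶜ = {x : G | x ∉ N} := rfl
    rw [h2] at h1
    have h3 : (N : Set G).ncard = Nat.card N := (Nat.card_coe_set_eq _).symm
    have h4 := N.card_mul_index
    have h5 : 2 ≤ N.index := N.one_lt_index_of_ne_top hN
    have h6 : Nat.card N * 2 ≤ Nat.card N * N.index := Nat.mul_le_mul_left _ h5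
    omega
  have hsum : ({x : G | x ∉ N}).ncard ≤ ∑ p ∈ s, (A p).card := by
    refine (Set.ncard_le_ncard hcover (Set.toFinite _)).trans ?_
    rw [Set.ncard_coe_finset]
    exact Finset.card_biUnion_le
  have hpos : (0 : ℚ) < Nat.card G := by exact_mod_cast Nat.card_pos
  have hq : ((Nat.card G : ℚ)) ≤ 2 * ∑ p ∈ s, (Nat.card G : ℚ) * (1 / (p : ℚ) ^ 2) := by
    have h1 : (Nat.card G : ℚ) ≤ 2 * ((∑ p ∈ s, (A p).card : ℕ) : ℚ) := by
      exact_mod_cast hout.trans (Nat.mul_le_mul_left 2 hsum)
    refine h1.trans (mul_le_mul_of_nonneg_left ?_ (by norm_num))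
    push_cast
    refine Finset.sum_le_sum (fun p hp => ?_)
    have hp' := Nat.prime_of_mem_primeFactors hp
    have hpp : (0 : ℚ) < (p : ℚ) ^ 2 := pow_pos (by exact_mod_cast hp'.pos) 2
    rw [mul_one_div, le_div_iff₀ hpp]
    exact_mod_cast hbound p hp'
  have hlt := sum_inv_sq_primes_lt s (fun p hp => Nat.prime_of_mem_primeFactors hp)
  rw [← Finset.mul_sum] at hq
  nlinarith

end Cfsg.Agent.MaxCentOutside
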